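import Groth.Agent.Lib.Curves.GlobalSections
import Groth.Agent.Lib.Exchange.Linear
import Groth.Agent.Lib.Modules.Free
import Groth.Agent.Lib.CurveBundle.Coherent
import Groth.Agent.Lib.CurveBundle.Twist
import Groth.Agent.Lib.Snapper.Finite
import Groth.Agent.Lib.Cyc.FP.Stalk
import Groth.Agent.Lib.RefHull.Tensor
import Groth.Prelude.Def_Pic13
import Mathlib.AlgebraicGeometry.AffineSpace

/-!
# Bounded families of cokernels

Modules of the form `coker(O^N ⟶ B) ⊗ C`, for fixed `N`, coherent `B` and invertible `C`, form a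
bounded family: they are the fibres of a universal cokernel over an affine space.
-/

set_option autoImplicit false
universe u

open CategoryTheory Limits AlgebraicGeometry Opposite

namespace Groth.Agent.Lib.BddFam.Presented

open Groth.Agent.Lib

variable (k : Type u) [Field k] {X : Scheme.{u}} [X.Over (Spec (CommRingCat.of k))]

theorem mono {P Q : X.Modules → Prop} (h : ∀ F, P F → Q F) (hQ : Pic13.IsBounded k X Q) :
    Pic13.IsBounded k X P := by
  obtain ⟨T, q, h1, h2, F, hF, hh⟩ := hQ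
  exact ⟨T, q, h1, h2, F, hF, fun G hG => hh G (h G hG)⟩

theorem app_sum {M N : X.Modules} {ι : Type*} (s : Finset ι) (f : ι → (M ⟶ N)) (U : X.Opens)
    (m : Γ(M, U)) : (∑ i ∈ s, f i).app U m = ∑ i ∈ s, (f i).app U m :=
  map_sum (AddMonoidHom.mk' (fun g : M ⟶ N => g.app U m) fun _ _ => rfl) f s

theorem smulModΓ_natural {M N : X.Modules} (g : M ⟶ N) (r : Coh.Γtop X) :
    g ≫ Formal.smulModΓ N r = Formal.smulModΓ M r ≫ g := by
  ext U s
  change (X.presheaf.map (homOfLE (le_top (a := U))).op r : Γ(X, U)) • g.app U s =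
    g.app U ((X.presheaf.map (homOfLE (le_top (a := U))).op r : Γ(X, U)) • s)
  exact (Scheme.Modules.Hom.app_smul g _ s).symm

/-- Finitely many maps span the maps out of a finite free module into a coherent one, over `k`. -/
theorem exists_hom_span [IsProper (X ↘ Spec (CommRingCat.of k))] (N : ℕ) {B : X.Modules}
    (hB : Coh.IsCoh B) : ∃ (M : ℕ) (φ : Fin M → (FlatMod.freeMod X N ⟶ B)),
      ∀ ψ : FlatMod.freeMod X N ⟶ B, ∃ c : Fin M → k,
        ψ = ∑ i, Formal.smulMod k (FlatMod.freeMod X N) (c i) ≫ φ i := by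
  letI := Curves.GlobalSections.secModule k B
  have := Snapper.Finite.cohFinite k X B hB 0
  haveI : Module.Finite k (B.val.obj (op ⊤) : Type u) :=
    Module.Finite.equiv (Curves.GlobalSections.h0Linear k B)
  let bs := Module.finBasis k (B.val.obj (op ⊤) : Type u)
  set d := Module.finrank k (B.val.obj (op ⊤) : Type u)
  let e : Fin (N * d) ≃ Fin N × Fin d := finProdFinEquiv.symm
  let φ : Fin N × Fin d → (FlatMod.freeMod X N ⟶ B) := fun p =>
    Modules.Free.freeHom fun i => if i = p.1 then (show Γ(B, ⊤) from bs p.2) else 0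
  refine ⟨N * d, fun j => φ (e j), fun ψ => ?_⟩
  let v : Fin N → (B.val.obj (op ⊤) : Type u) := fun i => ψ.app ⊤ (Modules.Free.gen X i)
  refine ⟨fun j => bs.repr (v (e j).1) (e j).2, Modules.Free.freeHom_ext fun i => ?_⟩
  rw [app_sum, Equiv.sum_comp e (fun p => (Formal.smulMod k (FlatMod.freeMod X N)
    (bs.repr (v p.1) p.2) ≫ φ p).app ⊤ (Modules.Free.gen X i)), Fintype.sum_prod_type]
  rw [Finset.sum_eq_single i]
  · refine (bs.sum_repr (v i)).symm.trans (Finset.sum_congr rfl fun l _ => ?_)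
    rw [Scheme.Modules.Hom.comp_app, CategoryTheory.comp_apply]
    change _ = (φ (i, l)).app ⊤
      ((X.presheaf.map (homOfLE (le_top (a := (⊤ : X.Opens)))).op
        (Coh.toGlobal (X ↘ Spec (CommRingCat.of k)) (bs.repr (v i) l)) : Γ(X, ⊤)) •
          Modules.Free.gen X i)
    rw [Scheme.Modules.Hom.app_smul, Modules.Free.freeHom_app_gen, if_pos rfl,
      show (homOfLE (le_top (a := (⊤ : X.Opens)))).op = 𝟙 _ from rfl, CategoryTheory.Functor.map_id]
    rfl
  · intro j _ hj
    refine Finset.sum_eq_zero fun l _ => ?_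
    rw [Scheme.Modules.Hom.comp_app, CategoryTheory.comp_apply]
    change (φ (j, l)).app ⊤
      ((X.presheaf.map (homOfLE (le_top (a := (⊤ : X.Opens)))).op
        (Coh.toGlobal (X ↘ Spec (CommRingCat.of k)) (bs.repr (v j) l)) : Γ(X, ⊤)) •
          Modules.Free.gen X i) = _
    rw [Scheme.Modules.Hom.app_smul, Modules.Free.freeHom_app_gen, if_neg (Ne.symm hj), smul_zero]
  · simp

/-- Cokernels of the maps in the span of finitely many maps form a bounded family. -/
theorem isBounded_coker [IsProper (X ↘ Spec (CommRingCat.of k))] {A B : X.Modules}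
    (hA : Coh.IsCoh A) (hB : Coh.IsCoh B) {M : ℕ} (φ : Fin M → (A ⟶ B)) :
    Pic13.IsBounded k X (fun F => ∃ c : Fin M → k,
      Nonempty (cokernel (∑ i, Formal.smulMod k A (c i) ≫ φ i) ≅ F)) := by
  let S := Spec (CommRingCat.of k)
  let T : Scheme.{u} := 𝔸(ULift.{u} (Fin M); S)
  let q : T ⟶ S := 𝔸(ULift.{u} (Fin M); S) ↘ S
  haveI : LocallyOfFiniteType q := inferInstance
  haveI : QuasiCompact q := inferInstance
  let p : Pic13.prodK k X q ⟶ X := pullback.fst _ _
  let π : Pic13.prodK k X q ⟶ T := pullback.snd _ _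
  let Φ := Scheme.Modules.pullback p
  haveI : IsLocallyNoetherian (Pic13.prodK k X q) :=
    LocallyOfFiniteType.isLocallyNoetherian (π ≫ q)
  let r : Fin M → Coh.Γtop (Pic13.prodK k X q) := fun i => π.appTop (AffineSpace.coord S ⟨i⟩)
  let ψ : Φ.obj A ⟶ Φ.obj B := ∑ i, Formal.smulModΓ (Φ.obj A) (r i) ≫ Φ.map (φ i)
  have hA' := Cyc.FP.Stalk.isCoh_pullback p hA
  have hB' := Cyc.FP.Stalk.isCoh_pullback p hB
  refine ⟨T, q, inferInstance, inferInstance, cokernel ψ,
    CohBasics.Closure.isCoh_cokernel ψ hA'.1 hB', fun F ⟨c, ⟨eF⟩⟩ => ?_⟩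
  let t : S ⟶ T := AffineSpace.homOfVector (𝟙 S)
    fun j => (Scheme.ΓSpecIso (CommRingCat.of k)).inv (c j.down)
  have ht : t ≫ q = 𝟙 S := AffineSpace.homOfVector_over _ _
  refine ⟨t, ht, ⟨?_ ≪≫ eF⟩⟩
  let s := Pic13.sliceAt k X q t ht
  let Ψ := Scheme.Modules.pullback s
  have hs : s ≫ p = 𝟙 X := pullback.lift_fst _ _ _
  let η : Φ ⋙ Ψ ≅ 𝟭 X.Modules :=
    Scheme.Modules.pullbackComp s p ≪≫ Scheme.Modules.pullbackCongr hs ≪≫
      Scheme.Modules.pullbackId X
  have hr : ∀ i, s.appTop (r i) = Coh.toGlobal (X ↘ Spec (CommRingCat.of k)) (c i) := by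
    intro i
    rw [← CategoryTheory.comp_apply, ← Scheme.Hom.comp_appTop,
      show s ≫ π = (X ↘ Spec (CommRingCat.of k)) ≫ t from pullback.lift_snd _ _ _,
      Scheme.Hom.comp_appTop, CategoryTheory.comp_apply, AffineSpace.homOfVector_appTop_coord]
    rfl
  have hψ : Ψ.map ψ ≫ (η.app B).hom =
      (η.app A).hom ≫ ∑ i, Formal.smulMod k A (c i) ≫ φ i := by
    rw [Functor.map_sum, Preadditive.sum_comp, Preadditive.comp_sum]
    refine Finset.sum_congr rfl fun i _ => ?_
    have e2 : Ψ.map (Φ.map (φ i)) ≫ (η.app B).hom = (η.app A).hom ≫ φ i := η.hom.naturality (φ i)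
    rw [Functor.map_comp, ZarCoh.Exchange.Linear.pullback_smul, hr i, Category.assoc, e2,
      ← Category.assoc, ← Category.assoc]
    congr 1
    exact (smulModΓ_natural (η.app A).hom _).symm
  exact PreservesCokernel.iso Ψ ψ ≪≫ cokernel.mapIso _ _ (η.app A) (η.app B) hψ

/-- `coker(O^N ⟶ B) ⊗ C` is a bounded family. -/
theorem isBounded_presented [IsProper (X ↘ Spec (CommRingCat.of k))] (N : ℕ) {B C : X.Modules}
    (hB : Coh.IsCoh B) (hC : PicF.IsInvertible C) :
    Pic13.IsBounded k X (fun F => ∃ ψ : FlatMod.freeMod X N ⟶ B,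
      Nonempty (CohB1.tensorMod (cokernel ψ) C ≅ F)) := by
  have := Curves.GlobalSections.isNoetherian_of_proper k X
  obtain ⟨M, φ, hφ⟩ := exists_hom_span k N hB
  let Θ := TensorMod.Basic.tensorBy C
  haveI : Θ.IsEquivalence := CurveBundle.Twist.isEquivalence hC
  haveI : Θ.Additive := Functor.additive_of_preserves_binary_products _
  have hA : Coh.IsCoh (FlatMod.freeMod X N) :=
    CurveBundle.Coherent.isCoh (TensorMod.LocFree.of_rank (TensorMod.LocFree.isFinLocFree_freeMod X N))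
  refine mono k (fun F ⟨ψ, ⟨eF⟩⟩ => ?_) (isBounded_coker k (CurveBundle.Twist.isCoh hC hA)
    (CurveBundle.Twist.isCoh hC hB) fun i => Θ.map (φ i))
  obtain ⟨c, hc⟩ := hφ ψ
  refine ⟨c, ⟨cokernel.mapIso _ (Θ.map ψ) (Iso.refl _) (Iso.refl _) ?_ ≪≫
    (PreservesCokernel.iso Θ ψ).symm ≪≫ eF⟩⟩
  refine (Category.comp_id _).trans (Eq.trans ?_ (Category.id_comp _).symm)
  rw [hc, Functor.map_sum]
  refine Finset.sum_congr rfl fun i _ => ?_
  rw [Functor.map_comp]
  congr 1
  exact (ZarCoh.Exchange.Linear.tmap_smul_id _ C _).symm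

end Groth.Agent.Lib.BddFam.Presented
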