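import Groth.Agent.Lib.Curves.RegGG
import Groth.Agent.Lib.SurfInt.AmpleVanish
import Groth.Agent.Lib.DecSh.Family

/-!
# Bounded families on proper schemes of dimension at most one

Coherent sheaves `G` with `H¹(G(m)) = 0` and boundedly many sections of `G(m)(M)` form a bounded family.
-/

set_option autoImplicit false
universe u

open CategoryTheory Limits AlgebraicGeometry Opposite

namespace Groth.Agent.Lib.BddFam.Curve

open Groth.Agent.Lib TensorMod.Basic

variable (k : Type u) [Field k] {X : Scheme.{u}} [X.Over (Spec (CommRingCat.of k))]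
  [IsProper (X ↘ Spec (CommRingCat.of k))]

include k in
/-- A basis of the sections gives a map from a free module onto all global sections. -/
theorem exists_free_surj {F : X.Modules} (hF : Coh.IsCoh F) {N : ℕ}
    (hN : Curves.Euler.hdim k X F 0 ≤ N) :
    ∃ p : FlatMod.freeMod X N ⟶ F, Function.Surjective (p.app ⊤) := by
  have := Snapper.Finite.cohFinite k X F hF 0
  let bs := Module.finBasis k (Coh.HH X F 0)
  let g : Coh.HH X F 0 ≃+ Γ(F, ⊤) := Curves.GlobalSections.h0Equiv F
  let p : FlatMod.freeMod X N ⟶ F := Modules.Free.freeHom fun i =>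
    if hi : i.1 < Module.finrank k (Coh.HH X F 0) then g (bs ⟨i.1, hi⟩) else 0
  refine ⟨p, fun m => ?_⟩
  obtain ⟨z, rfl⟩ := g.surjective m
  refine ⟨∑ i, (show Γ(X, ⊤) from Coh.toGlobal (X ↘ Spec (CommRingCat.of k)) (bs.repr z i)) •
    Modules.Free.gen X ⟨i.1, i.2.trans_le hN⟩, ?_⟩
  rw [map_sum]
  conv_rhs => rw [← bs.sum_repr z, map_sum]
  refine Finset.sum_congr rfl fun i _ => ?_
  rw [Scheme.Modules.Hom.app_smul, Modules.Free.freeHom_app_gen, dif_pos i.2]
  exact (Curves.GlobalSections.h0Equiv_smul F _ (bs i)).symm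

variable (hdim : topologicalKrullDim X ≤ 1) {L : X.Modules} (hL : CohB1.IsAmple L)

include hdim hL in
/-- `H¹(G(m)) = 0` and a bound on sections: a bounded family. -/
theorem isBounded_of_vanishing : ∃ M : ℕ, ∀ m N : ℕ, Pic13.IsBounded k X (fun G => Coh.IsCoh G ∧
    Subsingleton (Coh.HH X (ShStab.twist X L G m) 1) ∧
    Curves.Euler.hdim k X (ShStab.twist X L (ShStab.twist X L G m) M) 0 ≤ N) := by
  have := Curves.GlobalSections.isNoetherian_of_proper k X
  have hLi := (Ample.Pow.isAmple_iff.1 hL).1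
  have hP := fun n => TensorMod.Invertible.isInvertible_tensorPow hLi n
  obtain ⟨M, A, hA, hM⟩ := Curves.RegGG.exists_gg_mul hdim k hL
  have hAi := (Ample.Pow.isAmple_iff.1 hA).1
  obtain ⟨M₂, hM₂⟩ := Curves.RegGG.exists_gg hdim k hL
  refine ⟨M, fun m N => ?_⟩
  let E := FlatMod.freeMod X N
  have hE : Coh.IsCoh E := Perfect.Coherent.isCoh_freeMod X N
  obtain ⟨j, hj⟩ := SurfInt.AmpleVanish.exists_subsingleton k hA hE
  let Aj := CohB1.tensorPow A j
  have hAj := TensorMod.Invertible.isInvertible_tensorPow hAi j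
  have hvE : Subsingleton (Coh.HH X (CohB1.tensorMod E Aj) 1) := hj j le_rfl 0
  let B := CohB1.tensorMod (CohB1.tensorMod E Aj) (CohB1.tensorPow L M₂)
  have hBc : Coh.IsCoh B := CurveBundle.Twist.isCoh (hP M₂) (CurveBundle.Twist.isCoh hAj hE)
  set N' := Curves.Euler.hdim k X B 0
  let Ci := CohB1.tensorMod (CohB1.tensorPow L m) (CohB1.tensorMod (CohB1.tensorPow L M)
    (CohB1.tensorMod Aj (CohB1.tensorPow L M₂)))
  have hCi : PicF.IsInvertible Ci := TensorMod.Invertible.isInvertible_tensorMod (hP m)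
    (TensorMod.Invertible.isInvertible_tensorMod (hP M)
      (TensorMod.Invertible.isInvertible_tensorMod hAj (hP M₂)))
  refine Presented.mono k (fun G ⟨hG, h1, hN⟩ => ?_)
    (Presented.isBounded_presented k N' (B := B) hBc (C := TensorMod.Dual.dual Ci)
      (TensorMod.Invertible.isInvertible_dual hCi))
  have hGm : Coh.IsCoh (ShStab.twist X L G m) := CurveBundle.Twist.isCoh (hP m) hG
  obtain ⟨hgg, hmul⟩ := hM _ hGm h1
  set F := ShStab.twist X L (ShStab.twist X L G m) M
  have hF : Coh.IsCoh F := CurveBundle.Twist.isCoh (hP M) hGm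
  obtain ⟨p, hp⟩ := exists_free_surj k hF hN
  have hpe : Epi p := (Modules.StalkModule.epi_iff_stalkMapₗ_surjective p).mpr fun x => by
    rw [← LinearMap.range_eq_top, eq_top_iff]
    refine (H34.GlobGen.gl_eq_top_of_gg hgg x).ge.trans ?_
    rw [H34.GlobGen.Gl, Submodule.span_le]
    rintro _ ⟨mm, rfl⟩
    obtain ⟨y, rfl⟩ := hp mm
    exact ⟨_, Modules.StalkModule.stalkMapₗ_germ p (U := ⊤) trivial y⟩
  let Θ := tensorBy Aj
  haveI := CurveBundle.Twist.isEquivalence hAj
  haveI : Θ.Additive := Functor.additive_of_preserves_binary_products _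
  have hK := CohBasics.Closure.isCoh_kernel p hE hF.1
  let S : ShortComplex X.Modules := ShortComplex.mk (kernel.ι p) p (kernel.condition p)
  have hS : S.ShortExact := { exact := ShortComplex.exact_kernel p }
  have hS' : (S.map Θ).ShortExact := hS.map_of_exact Θ
  have hsurj : Function.Surjective ((S.map Θ).g.app ⊤) := by
    have h := hmul E p hp j
    -- compare the iterated twist with the twist by the power
    have hnat : ∀ i, Curves.RegGG.twMap A p i ≫ (Curves.RegGG.twIso A F i).hom =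
        (Curves.RegGG.twIso A E i).hom ≫ tmap p (𝟙 (CohB1.tensorPow A i)) := by
      intro i
      induction i with
      | zero =>
        change p ≫ (rightUnit F).inv = (rightUnit E).inv ≫ tmap p (𝟙 _)
        rw [Iso.eq_inv_comp, ← Category.assoc, ← rightUnit_natural, Category.assoc,
          Iso.hom_inv_id, Category.comp_id]
      | succ i ih =>
        change tmap (Curves.RegGG.twMap A p i) (𝟙 A) ≫
            (tmap (Curves.RegGG.twIso A F i).hom (𝟙 A) ≫ (assoc F (CohB1.tensorPow A i) A).hom) =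
          (tmap (Curves.RegGG.twIso A E i).hom (𝟙 A) ≫ (assoc E (CohB1.tensorPow A i) A).hom) ≫
            tmap p (𝟙 (CohB1.tensorMod (CohB1.tensorPow A i) A))
        rw [← Category.assoc, ← tmap_comp, ih, Category.assoc, ← tmap_id, ← assoc_natural,
          ← Category.assoc, ← tmap_comp]
    suffices hz : Function.Surjective ((tmap p (𝟙 Aj)).app ⊤) from hz
    intro z
    obtain ⟨y, hy⟩ := h ((Curves.RegGG.twIso A F j).inv.app ⊤ z)
    refine ⟨(Curves.RegGG.twIso A E j).hom.app ⊤ y, ?_⟩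
    have e1 := congrArg (fun g : Curves.RegGG.tw A E j ⟶ CohB1.tensorMod F Aj =>
      (Scheme.Modules.Hom.app g ⊤) y) (hnat j)
    refine Eq.trans e1.symm ((congrArg ((Curves.RegGG.twIso A F j).hom.app ⊤) hy).trans ?_)
    exact congrArg (fun g => (Scheme.Modules.Hom.app g ⊤) z) (Curves.RegGG.twIso A F j).inv_hom_id
  have hK1 := H34.HOne.h1_of_surjective hS' hvE hsurj
  have hKA : Coh.IsCoh (Θ.obj (kernel p)) := CurveBundle.Twist.isCoh hAj hK
  let T' : X.Modules ⥤ X.Modules := Θ ⋙ tensorBy (CohB1.tensorPow L M₂)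
  haveI h2 := CurveBundle.Twist.isEquivalence (hP M₂)
  haveI : T'.IsEquivalence := inferInstanceAs ((Θ ⋙ tensorBy (CohB1.tensorPow L M₂)).IsEquivalence)
  let f : T'.obj (kernel p) ⟶ B := T'.map (kernel.ι p)
  haveI : Mono f := inferInstanceAs (Mono (T'.map (kernel.ι p)))
  have hKB : Coh.IsCoh (T'.obj (kernel p)) := CurveBundle.Twist.isCoh (hP M₂) hKA
  have hN' : Curves.Euler.hdim k X (T'.obj (kernel p)) 0 ≤ N' :=
    have := Snapper.Finite.cohFinite k X _ hBc 0
    Curves.Euler.hdim_zero_le_of_mono (k := k) f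
  obtain ⟨q, hq⟩ := DecShLib.Family.exists_free_epi k hKB (hM₂ _ hKA hK1) hN'
  refine ⟨q ≫ f, ⟨?_⟩⟩
  let e1 : cokernel (kernel.ι p) ≅ F := (cokernelIsCokernel (kernel.ι p)).coconePointUniqueUpToIso
    (Abelian.epiIsCokernelOfKernel (KernelFork.ofι (kernel.ι p) (kernel.condition p))
      (kernelIsKernel p))
  let e2 : cokernel (q ≫ f) ≅ T'.obj F :=
    cokernelEpiComp q f ≪≫ (PreservesCokernel.iso T' (kernel.ι p)).symm ≪≫ T'.mapIso e1
  let P := fun n => CohB1.tensorPow L n
  let e3 : T'.obj F ≅ CohB1.tensorMod G Ci :=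
    (assoc (CohB1.tensorMod (CohB1.tensorMod G (P m)) (P M)) Aj (P M₂) ≪≫
      assoc (CohB1.tensorMod G (P m)) (P M) _ ≪≫ assoc G (P m) _)
  exact tensorIso (e2 ≪≫ e3) (Iso.refl _) ≪≫ assoc G Ci (TensorMod.Dual.dual Ci) ≪≫
    tensorIso (Iso.refl G) (TensorMod.Invertible.tensorDualIso hCi) ≪≫ rightUnit G

end Groth.Agent.Lib.BddFam.Curve
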