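import Groth.Agent.Lib.BddFam.Presented
import Groth.Agent.Lib.DecSh.Family
import Groth.Agent.Lib.BddFam.Curve
import Groth.Agent.Lib.ProjKoszul.Regularity
import Groth.Agent.Lib.ProperFin.Projective
import Groth.Agent.Lib.Cyc.Dev.SchemeEquiv

/-!
# Regular sheaves with boundedly many sections form a bounded family

On `P^n` the kernel of the evaluation of an `m`-regular `G(m)` is `1`-regular, so `G` is presented by
free modules of bounded ranks; bounded families pull back along closed immersions.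
-/

set_option autoImplicit false
universe u

open CategoryTheory Limits AlgebraicGeometry Opposite

namespace Groth.Agent.Lib.BddFam.Regular

open Groth.Agent.Lib TensorMod.Basic ProjCoh.Coherent

/-- Bounded families pull back. -/
theorem isBounded_pullback (k : Type u) [Field k] {X Y : Scheme.{u}}
    [X.Over (Spec (CommRingCat.of k))] [Y.Over (Spec (CommRingCat.of k))]
    [IsProper (X ↘ Spec (CommRingCat.of k))] (f : X ⟶ Y)
    (hf : f ≫ (Y ↘ Spec (CommRingCat.of k)) = X ↘ Spec (CommRingCat.of k))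
    {Q : Y.Modules → Prop} (hQ : Pic13.IsBounded k Y Q) :
    Pic13.IsBounded k X (fun F => ∃ G, Q G ∧ Nonempty ((Scheme.Modules.pullback f).obj G ≅ F)) := by
  obtain ⟨T, q, h1, h2, U, hU, hh⟩ := hQ
  let g : Pic13.prodK k X q ⟶ Pic13.prodK k Y q := pullback.map _ _ _ _ f (𝟙 T) (𝟙 _)
    (by rw [Category.comp_id, hf]) (by simp)
  haveI : IsLocallyNoetherian (Pic13.prodK k X q) :=
    LocallyOfFiniteType.isLocallyNoetherian (pullback.snd (X ↘ Spec (CommRingCat.of k)) q ≫ q)
  refine ⟨T, q, h1, h2, (Scheme.Modules.pullback g).obj U, Cyc.FP.Stalk.isCoh_pullback g hU,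
    fun F ⟨G, hG, ⟨eF⟩⟩ => ?_⟩
  obtain ⟨t, ht, ⟨e⟩⟩ := hh G hG
  refine ⟨t, ht, ⟨?_⟩⟩
  have hs : Pic13.sliceAt k X q t ht ≫ g = f ≫ Pic13.sliceAt k Y q t ht := by
    apply pullback.hom_ext
    · simp only [g, Pic13.sliceAt, pullback.map, Category.assoc, pullback.lift_fst]
      rw [pullback.lift_fst_assoc, Category.id_comp, Category.comp_id]
    · simp only [g, Pic13.sliceAt, pullback.map, Category.assoc, pullback.lift_snd,
        Category.comp_id]
      rw [← Category.assoc f, hf]
  exact (Scheme.Modules.pullbackComp _ g).app U ≪≫ (Scheme.Modules.pullbackCongr hs).app U ≪≫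
    ((Scheme.Modules.pullbackComp f _).app U).symm ≪≫
    (Scheme.Modules.pullback f).mapIso e ≪≫ eF

section Proj

variable {n : ℕ} {k : Type u} [Field k]

/-- `free(d)` has no higher cohomology for `d ≥ -n`. -/
theorem free_vanish (N : ℕ) {d : ℤ} (hd : -(n : ℤ) ≤ d) {q : ℕ} (hq : q ≠ 0) :
    Subsingleton (Coh.HH (CohB1.ProjSpace n k)
      (CohB1.tensorMod (FlatMod.freeMod (CohB1.ProjSpace n k) N) (tw n k d)) q) := by
  obtain ⟨e⟩ := nonempty_freeMod_tensor (n := n) (R := k) N d
  exact ProjKoszul.Chase.subsingleton_of_iso k e.symm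
    (subsingleton_HH_sumTS N (ProjCoh.Twist.subsingleton_HH_of_neg_le n k hd hq))

/-- The regular sheaves with at most `N` sections at the level of regularity are bounded. -/
theorem isBounded_reg (m : ℤ) (N : ℕ) :
    Pic13.IsBounded k (CohB1.ProjSpace n k) (fun G => Coh.IsCoh G ∧ ProjKoszul.Regularity.Reg G m ∧
      Curves.Euler.hdim k (CohB1.ProjSpace n k) (CohB1.tensorMod G (tw n k m)) 0 ≤ N) := by
  haveI : IsProper (CohB1.ProjSpace n k ↘ Spec (CommRingCat.of k)) :=
    ProjSpace.Basic.isProper_toSpec n k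
  haveI := Curves.GlobalSections.isNoetherian_of_proper k (CohB1.ProjSpace n k)
  let E := FlatMod.freeMod (CohB1.ProjSpace n k) N
  have hE : Coh.IsCoh E := Perfect.Coherent.isCoh_freeMod _ N
  let T' : (CohB1.ProjSpace n k).Modules ⥤ (CohB1.ProjSpace n k).Modules := tensorBy (tw n k 1)
  haveI h2 := CurveBundle.Twist.isEquivalence (isInvertible_tw (n := n) (R := k) 1)
  haveI : T'.IsEquivalence := h2
  let B := T'.obj E
  have hBc : Coh.IsCoh B := CurveBundle.Twist.isCoh (isInvertible_tw 1) hE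
  set N' := Curves.Euler.hdim k (CohB1.ProjSpace n k) B 0
  let Ci := CohB1.tensorMod (tw n k m) (tw n k 1)
  have hCi : PicF.IsInvertible Ci :=
    TensorMod.Invertible.isInvertible_tensorMod (isInvertible_tw m) (isInvertible_tw 1)
  refine Presented.mono k (fun G ⟨hG, hreg, hN⟩ => ?_)
    (Presented.isBounded_presented k N' (B := B) hBc (C := TensorMod.Dual.dual Ci)
      (TensorMod.Invertible.isInvertible_dual hCi))
  set F := CohB1.tensorMod G (tw n k m) with hFdef
  have hF : Coh.IsCoh F := isCoh_tensorMod hG (isCoh_tw m)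
  have hgg := ProjKoszul.Regularity.isGloballyGenerated_of_le hG hreg le_rfl
  obtain ⟨p, hp⟩ := BddFam.Curve.exists_free_surj k hF hN
  have hpe : Epi p := (Modules.StalkModule.epi_iff_stalkMapₗ_surjective p).mpr fun x => by
    rw [← LinearMap.range_eq_top, eq_top_iff]
    refine (H34.GlobGen.gl_eq_top_of_gg hgg x).ge.trans ?_
    rw [H34.GlobGen.Gl, Submodule.span_le]
    rintro _ ⟨mm, rfl⟩
    obtain ⟨y, rfl⟩ := hp mm
    exact ⟨_, Modules.StalkModule.stalkMapₗ_germ p (U := ⊤) trivial y⟩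
  have hK := CohBasics.Closure.isCoh_kernel p hE hF.1
  let S : ShortComplex (CohB1.ProjSpace n k).Modules :=
    ShortComplex.mk (kernel.ι p) p (kernel.condition p)
  have hS : S.ShortExact := { exact := ShortComplex.exact_kernel p }
  have hKreg : ProjKoszul.Regularity.Reg (kernel p) 1 := by
    intro q hq
    obtain ⟨q', rfl⟩ : ∃ q', q = q' + 1 := ⟨q - 1, by omega⟩
    by_cases hbig : n < q' + 1
    · have := (isCoh_tensorMod hK (isCoh_tw (n := n) (R := k) ((1 : ℤ) - ((q' + 1 : ℕ) : ℤ)))).1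
      exact ProjCoh.Twist.subsingleton_HH_of_lt _ hbig
    rcases Nat.eq_zero_or_pos q' with rfl | hq'
    · have h0 : Subsingleton (Coh.HH (CohB1.ProjSpace n k) E 1) :=
        ProjKoszul.Chase.subsingleton_of_iso k
          (tensorIso (Iso.refl E) ProjCoh.Coherent.twZero ≪≫ rightUnit E)
          (free_vanish N (d := 0) (by omega) one_ne_zero)
      exact ProjKoszul.Chase.subsingleton_of_iso k
        ((rightUnit (kernel p)).symm ≪≫ tensorIso (Iso.refl _) ProjCoh.Coherent.twZero.symm ≪≫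
          tensorIso (Iso.refl _) (eqToIso (congrArg (tw n k) (by norm_num))))
        (H34.HOne.h1_of_surjective hS h0 hp)
    · set d : ℤ := (1 : ℤ) - ((q' + 1 : ℕ) : ℤ) with hd
      have hS' := shortExact_tw hS d
      have h2' : Subsingleton (Coh.HH (CohB1.ProjSpace n k) (CohB1.tensorMod E (tw n k d)) (q' + 1)) :=
        free_vanish N (by rw [hd]; push_cast; omega) (by omega)
      have h3 : Subsingleton (Coh.HH (CohB1.ProjSpace n k) (CohB1.tensorMod F (tw n k d)) q') :=
        ProjKoszul.Chase.subsingleton_of_iso k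
          ((assoc G (tw n k m) (tw n k d) ≪≫
            tensorIso (Iso.refl G) (ProjCoh.Coherent.twTensor m d)).symm)
          (ProjKoszul.Regularity.subsingleton_of_le hreg hq' (by rw [hd]; push_cast; omega))
      refine subsingleton_of_forall_eq 0 fun x => ?_
      obtain ⟨y, hy⟩ := (Curves.LES.exactK₁ k hS' q' (q' + 1) rfl x).1 (@Subsingleton.elim _ h2' _ _)
      rw [← hy, show y = 0 from @Subsingleton.elim _ h3 _ _, map_zero]
      rfl
  have hgg' := ProjKoszul.Regularity.isGloballyGenerated_of_le hK hKreg le_rfl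
  let f : T'.obj (kernel p) ⟶ B := T'.map (kernel.ι p)
  haveI : Mono f := inferInstanceAs (Mono (T'.map (kernel.ι p)))
  have hKB : Coh.IsCoh (T'.obj (kernel p)) := CurveBundle.Twist.isCoh (isInvertible_tw 1) hK
  have hN' : Curves.Euler.hdim k (CohB1.ProjSpace n k) (T'.obj (kernel p)) 0 ≤ N' :=
    have := Snapper.Finite.cohFinite k (CohB1.ProjSpace n k) _ hBc 0
    Curves.Euler.hdim_zero_le_of_mono (k := k) f
  obtain ⟨q, hq⟩ := DecShLib.Family.exists_free_epi k hKB hgg' hN'
  refine ⟨q ≫ f, ⟨?_⟩⟩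
  let e1 : cokernel (kernel.ι p) ≅ F := (cokernelIsCokernel (kernel.ι p)).coconePointUniqueUpToIso
    (Abelian.epiIsCokernelOfKernel (KernelFork.ofι (kernel.ι p) (kernel.condition p))
      (kernelIsKernel p))
  let e2 : cokernel (q ≫ f) ≅ T'.obj F :=
    cokernelEpiComp q f ≪≫ (PreservesCokernel.iso T' (kernel.ι p)).symm ≪≫ T'.mapIso e1
  let e3 : T'.obj F ≅ CohB1.tensorMod G Ci := assoc G (tw n k m) (tw n k 1)
  exact tensorIso (e2 ≪≫ e3) (Iso.refl _) ≪≫ assoc G Ci (TensorMod.Dual.dual Ci) ≪≫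
    tensorIso (Iso.refl G) (TensorMod.Invertible.tensorDualIso hCi) ≪≫ rightUnit G

end Proj

/-- Regular families with a fixed Hilbert polynomial on a closed subscheme of `P^n` are bounded. -/
theorem isBounded_mRegular (k : Type u) [Field k] (n : ℕ) (X : Scheme.{u})
    [X.Over (Spec (CommRingCat.of k))] (i : X ⟶ CohB1.ProjSpace n k) [IsClosedImmersion i]
    (hi : i ≫ CohB1.ProjSpace.toSpec n k = X ↘ Spec (CommRingCat.of k))
    (m : ℤ) (φ : Polynomial ℚ) :
    Pic13.IsBounded k X (fun F : X.Modules => Coh.IsCoh F ∧ Pic13.IsMRegular k i F m ∧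
      ∀ d : ℤ, (FGA.eulerCharLE k X (Pic13.twistOn k i F d) n : ℚ) = φ.eval (d : ℚ)) := by
  haveI : IsProper (CohB1.ProjSpace n k ↘ Spec (CommRingCat.of k)) :=
    ProjSpace.Basic.isProper_toSpec n k
  haveI : IsProper (X ↘ Spec (CommRingCat.of k)) := by
    rw [← hi]; infer_instance
  haveI := Curves.GlobalSections.isNoetherian_of_proper k X
  refine Presented.mono k (fun F ⟨hF, hreg, hφ⟩ => ?_)
    (isBounded_pullback k i hi (isBounded_reg (n := n) (k := k) m ⌈|φ.eval (m : ℚ)|⌉.toNat))
  have hcoh : ∀ d : ℤ, Coh.IsCoh (Pic13.twistOn k i F d) := fun d =>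
    isCoh_tensorMod hF (Ample.GG.isCoh_of_isInvertible
      (PicLoc.isInvertible_pullback i (isInvertible_tw d)))
  let G := (Coh.push i).obj F
  have hG : Coh.IsCoh G := Cyc.Dev.SchemeEquiv.isCoh_push i hF
  let e : ∀ d : ℤ, (Coh.push i).obj (Pic13.twistOn k i F d) ≅
      CohB1.tensorMod G (Twist.twistProjSpace n k d) := fun d =>
    (Coh.push i).mapIso (comm _ _) ≪≫
    ((Modules.ProjFormula.projIso i (E := Twist.twistProjSpace n k d)
      (Modules.DualBasis.hasDBases_of_isFinLocFree (TensorMod.LocFree.of_rank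
        (TensorMod.LocFree.of_isInvertible (isInvertible_tw d))))).app F).symm ≪≫ comm _ _
  have hH : ∀ (d : ℤ) (q : ℕ), Nonempty (Coh.HH X (Pic13.twistOn k i F d) q ≃ₗ[k]
      Coh.HH (CohB1.ProjSpace n k) (CohB1.tensorMod G (Twist.twistProjSpace n k d)) q) := fun d q => by
    have := (hcoh d).1
    have E := ZarCoh.Linear.affineLinearEquiv (A := k) i hi (Pic13.twistOn k i F d) q
    exact ⟨E.symm.trans (Curves.LES.isoK k (e d) q)⟩
  have hRG : ProjKoszul.Regularity.Reg G m := fun q hq => by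
    obtain ⟨E⟩ := hH (m - q) q
    have := hreg q hq
    exact E.symm.injective.subsingleton
  haveI := Cyc.Dev.SchemeCase.isIso_counit i F
  refine ⟨G, ⟨hG, hRG, ?_⟩,
    ⟨asIso ((Scheme.Modules.pullbackPushforwardAdjunction i).counit.app F)⟩⟩
  obtain ⟨E⟩ := hH m 0
  have h := hφ m
  rw [FGA.eulerCharLE, Finset.sum_eq_single 0 (fun q _ hq0 => ?_) (by simp)] at h
  · simp only [pow_zero, one_mul, Int.cast_natCast] at h
    change Curves.Euler.hdim k _ (CohB1.tensorMod G (Twist.twistProjSpace n k m)) 0 ≤ _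
    rw [Curves.Euler.hdim, ← E.finrank_eq]
    have h1 : ((Module.finrank k (Coh.HH X (Pic13.twistOn k i F m) 0) : ℤ) : ℚ) ≤
        ((⌈|φ.eval (m : ℚ)|⌉ : ℤ) : ℚ) := by
      push_cast
      rw [h]
      exact (le_abs_self _).trans (Int.le_ceil _)
    have h2 : (Module.finrank k (Coh.HH X (Pic13.twistOn k i F m) 0) : ℤ) ≤ ⌈|φ.eval (m : ℚ)|⌉ := by
      exact_mod_cast h1
    omega
  · obtain ⟨E'⟩ := hH m q
    have := ProjKoszul.Regularity.subsingleton_of_le hRG (i := q) (r := m) (by omega) (by omega)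
    have : Subsingleton (Coh.HH X (Pic13.twistOn k i F m) q) :=
      @Function.Injective.subsingleton _ _ _ E'.injective this
    rw [Module.finrank_zero_of_subsingleton]
    simp

end Groth.Agent.Lib.BddFam.Regular
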