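import Groth.Agent.Lib.BddFam.Presented
import Groth.Agent.Lib.ProjCoh.Coherent
import Groth.Agent.Lib.Ample.Pullback
import Groth.Agent.Lib.Ample.Pow
import Groth.Agent.Lib.Cyc.FP.Stalk
import Groth.Agent.Lib.ProjSpace.Basic
import Mathlib.AlgebraicGeometry.Morphisms.Affine

/-!
# Members of a bounded family are quotients of one module `O(-m)^N`
-/

set_option autoImplicit false
universe u

open CategoryTheory CategoryTheory.Limits AlgebraicGeometry

noncomputable section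

namespace Groth.Agent.Lib.BddFam.Quotient

open Groth.Agent.Lib TensorMod.Basic

/-- Padding a free module. -/
theorem exists_epi_free_le (X : Scheme.{u}) {a b : ℕ} (h : a ≤ b) :
    ∃ p : FlatMod.freeMod X b ⟶ FlatMod.freeMod X a, Epi p := by
  let p : FlatMod.freeMod X b ⟶ FlatMod.freeMod X a :=
    Sigma.desc fun i : Fin b => if hi : (i : ℕ) < a then
      Sigma.ι (fun _ : Fin a => Coh.structureModule X) ⟨i, hi⟩ else 0
  let j : FlatMod.freeMod X a ⟶ FlatMod.freeMod X b :=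
    Sigma.desc fun i : Fin a => Sigma.ι (fun _ : Fin b => Coh.structureModule X) (Fin.castLE h i)
  have hjp : j ≫ p = 𝟙 _ := Sigma.hom_ext _ _ fun i => by simp [j, p]
  have : Epi (j ≫ p) := hjp ▸ inferInstance
  exact ⟨p, epi_of_epi j p⟩

variable {k : Type u} [Field k] {n : ℕ} {X : Scheme.{u}} [X.Over (Spec (CommRingCat.of k))]
  (i : X ⟶ CohB1.ProjSpace n k) [IsClosedImmersion i]
  [IsProper (X ↘ Spec (CommRingCat.of k))]

/-- Over an affine parameter scheme the twists are uniformly generated. -/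
theorem exists_twist_affine {T : Scheme.{u}} [IsAffine T] (q : T ⟶ Spec (CommRingCat.of k))
    [LocallyOfFiniteType q] (U : (Pic13.prodK k X q).Modules) (hU : Coh.IsCoh U) :
    ∃ m₀ : ℕ, ∀ m : ℕ, m₀ ≤ m → ∃ N : ℕ, ∀ (t : Spec (CommRingCat.of k) ⟶ T) (ht : t ≫ q = 𝟙 _),
      ∃ p : FlatMod.freeMod X N ⟶ Pic13.twistOn k i (Pic13.fibreMod k X q t ht U) m, Epi p := by
  haveI := Curves.GlobalSections.isNoetherian_of_proper k X
  let f := pullback.fst (X ↘ Spec (CommRingCat.of k)) q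
  haveI : IsAffineHom q := isAffineHom_of_isAffine q
  haveI hstab : MorphismProperty.IsStableUnderBaseChange.{u} @IsAffineHom.{u} := isAffineHom_isStableUnderBaseChange
  haveI : IsAffineHom f := hstab.of_isPullback (IsPullback.of_hasPullback _ q).flip inferInstance
  haveI : IsLocallyNoetherian (Pic13.prodK k X q) :=
    LocallyOfFiniteType.isLocallyNoetherian (pullback.snd (X ↘ Spec (CommRingCat.of k)) q ≫ q)
  haveI : CompactSpace (Pic13.prodK k X q) := QuasiCompact.compactSpace_of_compactSpace f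
  haveI : IsNoetherian (Pic13.prodK k X q) := ⟨⟩
  let L₀ := (Scheme.Modules.pullback i).obj (Twist.twistProjSpace n k 1)
  have hL₀ : CohB1.IsAmple L₀ :=
    Ample.Pullback.isAmple_pullback i (Ample.Pullback.isQuasiAffine_of_isAffineHom i)
      (HProj.QuasiProj.isAmple_twist_projSpace n k)
  let L := (Scheme.Modules.pullback f).obj L₀
  have hL : CohB1.IsAmple L :=
    Ample.Pullback.isAmple_pullback f (Ample.Pullback.isQuasiAffine_of_isAffineHom f) hL₀
  obtain ⟨m₀, hm₀⟩ := Ample.GG.eventually_genAt_twist hL U hU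
  refine ⟨m₀, fun m hm => ?_⟩
  have hc : Coh.IsCoh (CohB1.tensorMod U (CohB1.tensorPow L m)) :=
    ProjCoh.Coherent.isCoh_tensorMod hU
      (Ample.GG.isCoh_of_isInvertible (TensorMod.Invertible.isInvertible_tensorPow hL.1 m))
  obtain ⟨N, p, hp⟩ := ProjCoh.Gen.exists_epi_freeMod hc (hm₀ m hm)
  refine ⟨N, fun t ht => ?_⟩
  let σ := Pic13.sliceAt k X q t ht
  have hσ : σ ≫ f = 𝟙 X := pullback.lift_fst _ _ _
  haveI : (Scheme.Modules.pullback σ).IsLeftAdjoint :=
    (Scheme.Modules.pullbackPushforwardAdjunction σ).isLeftAdjoint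
  have hp' : Epi ((Scheme.Modules.pullback σ).map p) := (Scheme.Modules.pullback σ).map_epi p
  obtain ⟨j⟩ := ProjCoh.Coherent.nonempty_tensorPow_iso (n := n) (R := k) m
  let eL : (Scheme.Modules.pullback σ).obj L ≅ L₀ :=
    (Scheme.Modules.pullbackComp σ f).app L₀ ≪≫ (Scheme.Modules.pullbackCongr hσ).app L₀ ≪≫
      (Scheme.Modules.pullbackId X).app L₀
  let eP : (Scheme.Modules.pullback σ).obj (CohB1.tensorPow L m) ≅
      (Scheme.Modules.pullback i).obj (Twist.twistProjSpace n k (m : ℤ)) :=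
    Ample.Pow.pullbackPow σ L m ≪≫ Ample.Pow.powIso eL m ≪≫
      (Ample.Pow.pullbackPow i _ m).symm ≪≫ (Scheme.Modules.pullback i).mapIso j.symm
  let e : (Scheme.Modules.pullback σ).obj (CohB1.tensorMod U (CohB1.tensorPow L m)) ≅
      Pic13.twistOn k i (Pic13.fibreMod k X q t ht U) m :=
    TensorMod.Pullback.pullbackTensorIso σ U (CohB1.tensorPow L m) ≪≫ tensorIso (Iso.refl _) eP
  exact ⟨(TensorMod.LocFree.pullbackFreeModIso σ N).inv ≫ (Scheme.Modules.pullback σ).map p ≫ e.hom,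
    epi_comp' (IsIso.epi_of_iso _) (epi_comp' hp' (IsIso.epi_of_iso e.hom))⟩

/-- Members of a bounded family are quotients of a fixed `O(-m)^N`. -/
theorem exists_uniform (Q : X.Modules → Prop) (hb : Pic13.IsBounded k X Q) :
    ∃ (m N : ℕ), ∀ F, Q F → ∃ p : FlatMod.freeMod X N ⟶ Pic13.twistOn k i F m, Epi p := by
  obtain ⟨T, q, h1, h2, U, hU, hh⟩ := hb
  haveI : LocallyOfFiniteType q := h1
  haveI : QuasiCompact q := h2
  haveI : CompactSpace T := QuasiCompact.compactSpace_of_compactSpace q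
  choose V hV hxV using fun x : T => (exists_isAffineOpen_mem_and_subset
    (X := T) (x := x) (U := ⊤) trivial).imp fun V h => (And.intro h.1 h.2.1 : _)
  obtain ⟨S, hS⟩ := CompactSpace.elim_nhds_subcover (fun x : T => ((V x : T.Opens) : Set T))
    fun x => (V x).isOpen.mem_nhds (hxV x)
  let g : ∀ x : T, Pic13.prodK k X ((V x).ι ≫ q) ⟶ Pic13.prodK k X q := fun x =>
    pullback.map _ _ _ _ (𝟙 X) (V x).ι (𝟙 _) (by simp) (by simp)
  have key : ∀ x : T, ∃ m₀ : ℕ, ∀ m : ℕ, m₀ ≤ m → ∃ N : ℕ,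
      ∀ (t : Spec (CommRingCat.of k) ⟶ (V x : Scheme.{u})) (ht : t ≫ (V x).ι ≫ q = 𝟙 _),
        ∃ p : FlatMod.freeMod X N ⟶
          Pic13.twistOn k i (Pic13.fibreMod k X ((V x).ι ≫ q) t ht ((Scheme.Modules.pullback (g x)).obj U)) m,
          Epi p := fun x => by
    haveI : IsAffine (V x : Scheme.{u}) := hV x
    haveI : IsLocallyNoetherian (Pic13.prodK k X ((V x).ι ≫ q)) :=
      LocallyOfFiniteType.isLocallyNoetherian
        (pullback.snd (X ↘ Spec (CommRingCat.of k)) ((V x).ι ≫ q) ≫ (V x).ι ≫ q)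
    exact exists_twist_affine i _ _ (Cyc.FP.Stalk.isCoh_pullback (g x) hU)
  choose m₀ hm₀ using key
  choose N hN using fun x => hm₀ x (max (S.sup m₀) (m₀ x)) (le_max_right _ _)
  refine ⟨S.sup m₀, S.sup N, fun F hF => ?_⟩
  obtain ⟨t, ht, ⟨e⟩⟩ := hh F hF
  let pt : Spec (CommRingCat.of k) := IsLocalRing.closedPoint k
  obtain ⟨x, hx, hxt⟩ : ∃ x ∈ S, t pt ∈ V x := by
    have := hS.ge (Set.mem_univ (t pt))
    simp only [Set.mem_iUnion] at this
    obtain ⟨x, hx, h⟩ := this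
    exact ⟨x, hx, h⟩
  haveI : Subsingleton (Spec (CommRingCat.of k)) := inferInstanceAs (Subsingleton (PrimeSpectrum k))
  have hsub : Set.range t ⊆ Set.range (V x).ι := by
    rintro _ ⟨z, rfl⟩
    rw [Scheme.Opens.range_ι, Subsingleton.elim z pt]
    exact hxt
  let t' := IsOpenImmersion.lift (V x).ι t hsub
  have ht' : t' ≫ (V x).ι ≫ q = 𝟙 _ := by
    rw [← Category.assoc, IsOpenImmersion.lift_fac, ht]
  have hmax : max (S.sup m₀) (m₀ x) = S.sup m₀ := max_eq_left (Finset.le_sup hx)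
  obtain ⟨p, hp⟩ := hN x t' ht'
  obtain ⟨r, hr⟩ := exists_epi_free_le X (Finset.le_sup (f := N) hx)
  have hs : Pic13.sliceAt k X ((V x).ι ≫ q) t' ht' ≫ g x = Pic13.sliceAt k X q t ht := by
    apply pullback.hom_ext
    · simp only [g, Pic13.sliceAt, pullback.map, Category.assoc, pullback.lift_fst]
      erw [pullback.lift_fst_assoc]
      simp
    · simp only [g, Pic13.sliceAt, pullback.map, Category.assoc, pullback.lift_snd]
      erw [pullback.lift_snd_assoc]
      simp [t']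
  let eF : Pic13.fibreMod k X ((V x).ι ≫ q) t' ht' ((Scheme.Modules.pullback (g x)).obj U) ≅ F :=
    (Scheme.Modules.pullbackComp _ (g x)).app U ≪≫ (Scheme.Modules.pullbackCongr hs).app U ≪≫ e
  let eT : Pic13.twistOn k i (Pic13.fibreMod k X ((V x).ι ≫ q) t' ht'
      ((Scheme.Modules.pullback (g x)).obj U)) ((max (S.sup m₀) (m₀ x) : ℕ) : ℤ) ≅
      Pic13.twistOn k i F ((S.sup m₀ : ℕ) : ℤ) :=
    tensorIso eF (eqToIso (by rw [hmax]))
  exact ⟨r ≫ p ≫ eT.hom, epi_comp' hr (epi_comp' hp (IsIso.epi_of_iso eT.hom))⟩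

open TensorMod.Basic in
/-- The statement with the cofan of `O(-m)`. -/
theorem exists_cofan (Q : X.Modules → Prop) (hb : Pic13.IsBounded k X Q) :
    ∃ (m : ℤ) (N : ℕ) (E : X.Modules)
      (c : Fin N → (Pic13.twistOn k i (Coh.structureModule X) (-m) ⟶ E)),
      Nonempty (IsColimit (Cofan.mk E c)) ∧ ∀ F, Q F → ∃ p : E ⟶ F, Epi p := by
  obtain ⟨m, N, hm⟩ := exists_uniform i Q hb
  let A := Pic13.twistOn k i (Coh.structureModule X) (-(m : ℤ))
  refine ⟨m, N, ∐ fun _ : Fin N => A, Sigma.ι _, ⟨coproductIsCoproduct _⟩, fun F hF => ?_⟩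
  obtain ⟨p, hp⟩ := hm F hF
  let L := (Scheme.Modules.pullback i).obj (Twist.twistProjSpace n k (m : ℤ))
  let L' := (Scheme.Modules.pullback i).obj (Twist.twistProjSpace n k (-(m : ℤ)))
  let eL : CohB1.tensorMod L L' ≅ Coh.structureModule X :=
    (TensorMod.Pullback.pullbackTensorIso i _ _).symm ≪≫
      (Scheme.Modules.pullback i).mapIso (ProjCoh.Coherent.twCancel (m : ℤ) (-(m : ℤ)) (by ring)) ≪≫
      PicLoc.pullbackStructureIso i
  let eA : ∐ (fun _ : Fin N => A) ≅ CohB1.tensorMod (FlatMod.freeMod X N) L' :=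
    (PreservesCoproduct.iso (tensorBy L') (fun _ : Fin N => Coh.structureModule X)).symm
  let g : CohB1.tensorMod (FlatMod.freeMod X N) L' ⟶ CohB1.tensorMod (CohB1.tensorMod F L) L' :=
    tmap p (𝟙 L')
  haveI hg : Epi g := (tensorBy L').map_epi p
  let e2 : CohB1.tensorMod (CohB1.tensorMod F L) L' ≅ F :=
    assoc F L L' ≪≫ tensorIso (Iso.refl F) eL ≪≫ rightUnit F
  exact ⟨eA.hom ≫ g ≫ e2.hom, epi_comp' (IsIso.epi_of_iso eA.hom)
    (epi_comp' hg (IsIso.epi_of_iso e2.hom))⟩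

end Groth.Agent.Lib.BddFam.Quotient
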